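import Mathlib

/-!
Formally unramified algebras for adic topologies (EGA 0_IV 19.10.2, 20.7.4).
-/

set_option autoImplicit false
set_option linter.style.haveILetI false
set_option backward.isDefEq.respectTransparency false

universe u

namespace Groth.Agent.AdicUnramLib

open KaehlerDifferential

variable {A B : Type u} [CommRing A] [CommRing B] [Algebra A B] (𝔪 : Ideal A)

theorem formallyUnramified_quotient (h : Subsingleton (Ω[B ⧸ 𝔪.map (algebraMap A B)⁄A ⧸ 𝔪])) :
    Algebra.FormallyUnramified A (B ⧸ 𝔪.map (algebraMap A B)) := by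
  haveI : Algebra.FormallyUnramified (A ⧸ 𝔪) (B ⧸ 𝔪.map (algebraMap A B)) := ⟨h⟩
  exact Algebra.FormallyUnramified.comp A (A ⧸ 𝔪) _

/-- `Ω_{B₀/A} = 0` gives `Ω_{B/A} = 𝔪 Ω_{B/A}`. -/
theorem kaehler_le_smul [Algebra.FormallyUnramified A (B ⧸ 𝔪.map (algebraMap A B))] :
    (⊤ : Submodule B Ω[B⁄A]) ≤ 𝔪.map (algebraMap A B) • ⊤ := by
  have hker : ∀ x ∈ 𝔪.map (algebraMap A B), KaehlerDifferential.D A B x ∈
      (𝔪.map (algebraMap A B) • ⊤ : Submodule B Ω[B⁄A]) := fun x hx => by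
    induction hx using Submodule.span_induction with
    | mem x hx =>
      obtain ⟨a, -, rfl⟩ := hx
      rw [Derivation.map_algebraMap]
      exact zero_mem _
    | zero => rw [map_zero]; exact zero_mem _
    | add x y _ _ hx hy => rw [map_add]; exact add_mem hx hy
    | smul b x hxI hx =>
      rw [smul_eq_mul, Derivation.leibniz]
      exact add_mem (Submodule.smul_mem _ _ hx) (Submodule.smul_mem_smul hxI Submodule.mem_top)
  let M := Ω[B⁄A] ⧸ (𝔪.map (algebraMap A B) • ⊤ : Submodule B Ω[B⁄A])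
  let d₁ : B →ₗ[A] M := (Submodule.mkQ _).restrictScalars A ∘ₗ (KaehlerDifferential.D A B).toLinearMap
  let d₀ : (B ⧸ 𝔪.map (algebraMap A B)) →ₗ[A] M :=
    ((𝔪.map (algebraMap A B)).restrictScalars A).liftQ d₁
      (fun x hx => (Submodule.Quotient.mk_eq_zero _).2 (hker x hx)) ∘ₗ
    (Submodule.Quotient.restrictScalarsEquiv A (𝔪.map (algebraMap A B))).symm.toLinearMap
  have hd : ∀ b : B, d₀ (Ideal.Quotient.mk _ b) = Submodule.Quotient.mk (KaehlerDifferential.D A B b) := fun b => rfl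
  let δ : Derivation A (B ⧸ 𝔪.map (algebraMap A B)) M := Derivation.mk' d₀ fun x y => by
    obtain ⟨x, rfl⟩ := Ideal.Quotient.mk_surjective x
    obtain ⟨y, rfl⟩ := Ideal.Quotient.mk_surjective y
    rw [← map_mul, hd, hd, hd, Derivation.leibniz, Submodule.Quotient.mk_add, Submodule.Quotient.mk_smul,
      Submodule.Quotient.mk_smul]
    rfl
  have h0 : ∀ z, δ z = 0 := fun z => by
    rw [← Derivation.liftKaehlerDifferential_comp_D δ z,
      Subsingleton.elim (KaehlerDifferential.D A (B ⧸ 𝔪.map (algebraMap A B)) z) 0, map_zero]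
  refine (KaehlerDifferential.span_range_derivation A B).ge.trans (Submodule.span_le.2 ?_)
  rintro _ ⟨b, rfl⟩
  have := h0 (Ideal.Quotient.mk _ b)
  exact (Submodule.Quotient.mk_eq_zero _).1 ((hd b).symm.trans this)

theorem mk_eq_of_mod_succ [Algebra.FormallyUnramified A (B ⧸ 𝔪.map (algebraMap A B))] {E : Type u} [CommRing E]
    [Algebra A E] (i : ℕ) (v₁ v₂ : B →ₐ[A] E) (h : ∀ b, v₁ b - v₂ b ∈ (𝔪.map (algebraMap A E)) ^ (i + 1)) (b : B) :
    v₁ b - v₂ b ∈ (𝔪.map (algebraMap A E)) ^ (i + 2) := by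
  let P := (𝔪.map (algebraMap A E)) ^ (i + 2)
  let π := Ideal.Quotient.mkₐ A P
  letI : Algebra B (E ⧸ P) := (π.comp v₁).toRingHom.toAlgebra
  haveI : IsScalarTower A B (E ⧸ P) := IsScalarTower.of_algebraMap_eq fun a => ((π.comp v₁).commutes a).symm
  have hsm : ∀ (x : B) (z : E), x • π z = π (v₁ x * z) := fun x z => (map_mul π _ _).symm
  let δ : Derivation A B (E ⧸ P) := Derivation.mk' ((π.comp v₁).toLinearMap - (π.comp v₂).toLinearMap) fun x y => by
    simp only [LinearMap.sub_apply, AlgHom.toLinearMap_apply, AlgHom.comp_apply, ← map_sub, hsm, ← map_add]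
    refine (Ideal.Quotient.eq).2 ?_
    have h2 : (v₁ x - v₂ x) * (v₁ y - v₂ y) ∈ P := by
      refine Ideal.pow_le_pow_right (show i + 2 ≤ i + 1 + (i + 1) by omega) ?_
      rw [pow_add]
      exact Ideal.mul_mem_mul (h x) (h y)
    rw [show v₁ (x * y) - v₂ (x * y) - (v₁ x * (v₁ y - v₂ y) + v₁ y * (v₁ x - v₂ x)) =
      -((v₁ x - v₂ x) * (v₁ y - v₂ y)) by rw [map_mul, map_mul]; ring]
    exact neg_mem h2
  let N : Submodule B (E ⧸ P) :=
    ((((𝔪.map (algebraMap A E)) ^ (i + 1)).map (Ideal.Quotient.mk P) : Submodule (E ⧸ P) (E ⧸ P))).restrictScalars B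
  have hrange : ∀ z : Ω[B⁄A], δ.liftKaehlerDifferential z ∈ N := fun z => by
    have hz : z ∈ (⊤ : Submodule B Ω[B⁄A]) := Submodule.mem_top
    rw [← KaehlerDifferential.span_range_derivation A B] at hz
    induction hz using Submodule.span_induction with
    | mem z hz =>
      obtain ⟨x, rfl⟩ := hz
      rw [Derivation.liftKaehlerDifferential_comp_D]
      exact Ideal.mem_map_of_mem _ (h x)
    | zero => rw [map_zero]; exact zero_mem _
    | add x y _ _ hx hy => rw [map_add]; exact add_mem hx hy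
    | smul r x _ hx => rw [map_smul]; exact Submodule.smul_mem _ _ hx
  have hzero : ∀ x ∈ 𝔪.map (algebraMap A B), ∀ w ∈ N, x • w = (0 : E ⧸ P) := fun x hx w hw => by
    obtain ⟨w, hw', rfl⟩ := (Ideal.mem_map_iff_of_surjective _ Ideal.Quotient.mk_surjective).1 hw
    rw [show (Ideal.Quotient.mk P w) = π w from rfl, hsm]
    refine Ideal.Quotient.eq_zero_iff_mem.2 ?_
    show v₁ x * w ∈ (𝔪.map (algebraMap A E)) ^ (i + 2)
    rw [show i + 2 = (i + 1) + 1 from rfl, pow_succ']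
    refine Ideal.mul_mem_mul ?_ hw'
    have := Ideal.mem_map_of_mem v₁ hx
    erw [Ideal.map_map, v₁.comp_algebraMap] at this
    exact this
  have h0 : ∀ z : Ω[B⁄A], δ.liftKaehlerDifferential z = 0 := fun z => by
    have hz := kaehler_le_smul 𝔪 (Submodule.mem_top (x := z))
    refine Submodule.smul_induction_on hz (fun r hr w _ => ?_) fun x y hx hy => ?_
    · rw [map_smul]; exact hzero r hr _ (hrange w)
    · rw [map_add, hx, hy, add_zero]
  have := h0 (KaehlerDifferential.D A B b)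
  rw [Derivation.liftKaehlerDifferential_comp_D] at this
  exact Ideal.Quotient.eq_zero_iff_mem.1 ((map_sub π _ _).trans this)

theorem adic_unique (h : Subsingleton (Ω[B ⧸ 𝔪.map (algebraMap A B)⁄A ⧸ 𝔪])) (E : Type u) [CommRing E] [Algebra A E]
    (hk : ∃ k : ℕ, (𝔪 ^ k).map (algebraMap A E) = ⊥) (J : Ideal E) (hJ : IsNilpotent J) (v₁ v₂ : B →ₐ[A] E)
    (hv : ∀ b : B, Ideal.Quotient.mk J (v₁ b) = Ideal.Quotient.mk J (v₂ b)) : v₁ = v₂ := by
  haveI := formallyUnramified_quotient 𝔪 h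
  obtain ⟨k, hk⟩ := hk
  -- modulo `𝔪 E`
  have h1 : ∀ b, v₁ b - v₂ b ∈ 𝔪.map (algebraMap A E) := by
    let π := Ideal.Quotient.mkₐ A (𝔪.map (algebraMap A E))
    have hz : ∀ (v : B →ₐ[A] E), ∀ x ∈ 𝔪.map (algebraMap A B), (π.comp v) x = 0 := fun v x hx => by
      have hle : 𝔪.map (algebraMap A B) ≤ RingHom.ker (π.comp v) := Ideal.map_le_iff_le_comap.2 fun a ha => by
        rw [Ideal.mem_comap, RingHom.mem_ker, AlgHom.commutes, IsScalarTower.algebraMap_apply A E (E ⧸ _)]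
        exact Ideal.Quotient.eq_zero_iff_mem.2 (Ideal.mem_map_of_mem _ ha)
      exact hle hx
    let w₁ := Ideal.Quotient.liftₐ _ (π.comp v₁) (hz v₁)
    let w₂ := Ideal.Quotient.liftₐ _ (π.comp v₂) (hz v₂)
    obtain ⟨n, hn⟩ := hJ
    have hJ' : IsNilpotent (J.map π) :=
      ⟨n, by rw [← Ideal.map_pow, hn, Ideal.zero_eq_bot, Ideal.map_bot, Ideal.zero_eq_bot]⟩
    have hw : w₁ = w₂ := Algebra.FormallyUnramified.lift_unique (J.map π) hJ' w₁ w₂ (by
      refine Ideal.Quotient.algHom_ext A ?_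
      refine AlgHom.ext fun b => ?_
      show Ideal.Quotient.mk (J.map π) (π (v₁ b)) = Ideal.Quotient.mk (J.map π) (π (v₂ b))
      rw [Ideal.Quotient.eq, ← map_sub]
      exact Ideal.mem_map_of_mem _ (Ideal.Quotient.eq.1 (hv b)))
    intro b
    exact Ideal.Quotient.eq.1 (AlgHom.congr_fun hw (Ideal.Quotient.mk _ b))
  have h2 : ∀ i b, v₁ b - v₂ b ∈ (𝔪.map (algebraMap A E)) ^ (i + 1) := by
    intro i
    induction i with
    | zero => intro b; rw [zero_add, pow_one]; exact h1 b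
    | succ i ih => exact mk_eq_of_mod_succ 𝔪 i v₁ v₂ ih
  refine AlgHom.ext fun b => sub_eq_zero.1 ?_
  have := Ideal.pow_le_pow_right (Nat.le_succ k) (h2 k b)
  rwa [← Ideal.map_pow, hk, Ideal.mem_bot] at this

end Groth.Agent.AdicUnramLib
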